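import Groth.Agent.S7646
import Mathlib.AlgebraicGeometry.Morphisms.QuasiFinite
import Mathlib.Topology.NoetherianSpace

/-! Schemes of dimension at most one: open subschemes of affines, complements of dense opens. -/

set_option autoImplicit false
set_option linter.style.haveILetI false
set_option backward.isDefEq.respectTransparency false
set_option backward.isDefEq.respectTransparency.types false

universe u

open CategoryTheory CategoryTheory.Limits AlgebraicGeometry TopologicalSpace Topology

noncomputable section

namespace Groth.Agent.H9Curve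

variable {k : Type u} [Field k]

theorem topologicalKrullDim_eq_zero_of_finite_over_field {Y : Scheme.{u}} (g : Y ⟶ Spec (CommRingCat.of k))
    [IsFinite g] : topologicalKrullDim Y ≤ 0 := by
  have h : _root_.IsDiscrete (g ⁻¹' {default}) := g.isDiscrete_preimage_singleton default
  have hu : g ⁻¹' {default} = Set.univ := Set.eq_univ_of_forall fun y => Set.mem_singleton_iff.2 (Subsingleton.elim (g y) default)
  rw [hu] at h
  haveI : DiscreteTopology Y := isDiscrete_univ_iff.1 h
  exact topologicalKrullDim_zero_of_discreteTopology Y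

/-- An open subscheme of an affine curve is affine. -/
theorem isAffineOpen_of_le {X : Scheme.{u}} (x : X ⟶ Spec (CommRingCat.of k)) [LocallyOfFiniteType x]
    (hdim : topologicalKrullDim X ≤ 1) {V W : X.Opens} (hV : IsAffineOpen V) (h : W ≤ V) : IsAffineOpen W := by
  haveI : IsLocallyNoetherian X := LocallyOfFiniteType.isLocallyNoetherian x
  haveI : IsAffine (V : Scheme.{u}) := hV
  haveI : IsLocallyNoetherian (V : Scheme.{u}) := inferInstance
  haveI : IsNoetherian (V : Scheme.{u}) := ⟨⟩
  haveI : IsNoetherian (W : Scheme.{u}) := by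
    haveI : CompactSpace (W : Scheme.{u}) := by
      haveI : QuasiCompact (X.homOfLE h) := inferInstance
      exact QuasiCompact.compactSpace_of_compactSpace (X.homOfLE h)
    exact ⟨⟩
  letI : (W : Scheme.{u}).Over (Spec (CommRingCat.of k)) := ⟨W.ι ≫ x⟩
  haveI : IsSeparated ((W : Scheme.{u}) ↘ Spec (CommRingCat.of k)) := by
    show IsSeparated (W.ι ≫ x)
    rw [← X.homOfLE_ι h, Category.assoc]
    infer_instance
  haveI : LocallyOfFiniteType ((W : Scheme.{u}) ↘ Spec (CommRingCat.of k)) :=
    inferInstanceAs (LocallyOfFiniteType (W.ι ≫ x))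
  refine Groth.Agent.S7646.result k W ((IsInducing.topologicalKrullDim_le W.ι.isOpenEmbedding.isInducing).trans hdim)
    fun C hC h1 hp => ?_
  let J := ((W : Scheme.{u}).irreducibleComponentIdeal C hC).radical
  haveI : IsProper ((J.subschemeι ≫ X.homOfLE h) ≫ V.ι ≫ x) := by
    have e : (J.subschemeι ≫ X.homOfLE h) ≫ V.ι ≫ x = J.subschemeι ≫ W.ι ≫ x := by
      rw [Category.assoc, Scheme.homOfLE_ι_assoc]
    rw [e]
    exact hp
  haveI : IsProper (J.subschemeι ≫ X.homOfLE h) := IsProper.of_comp _ (V.ι ≫ x)
  haveI : IsClosedImmersion (J.subschemeι ≫ X.homOfLE h) := (IsClosedImmersion.iff_isProper_and_mono _).2 ⟨‹_›, inferInstance⟩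
  haveI : IsAffine J.subscheme := isAffine_of_isAffineHom (J.subschemeι ≫ X.homOfLE h)
  haveI : IsFinite (J.subschemeι ≫ W.ι ≫ x) := IsFinite.iff_isProper_and_isAffineHom.2 ⟨hp, inferInstance⟩
  have h0 := topologicalKrullDim_eq_zero_of_finite_over_field (J.subschemeι ≫ W.ι ≫ x)
  have hrange : Set.range J.subschemeι = C := by
    rw [Scheme.IdealSheafData.range_subschemeι]
    show ((J.support : Closeds (W : Scheme.{u})) : Set (W : Scheme.{u})) = C
    rw [Scheme.IdealSheafData.support_radical]
    rfl
  have e : topologicalKrullDim C ≤ topologicalKrullDim J.subscheme := by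
    rw [← hrange]
    exact (J.subschemeι.isClosedEmbedding.isEmbedding.toHomeomorph.symm.isInducing).topologicalKrullDim_le
  rw [h1] at e
  exact absurd (e.trans h0) (by decide)

/-- The complement of a dense open of a curve is finite and consists of closed points. -/
theorem finite_compl_of_dense {X : Scheme.{u}} [IsNoetherian X] (hdim : topologicalKrullDim X ≤ 1) {U : X.Opens}
    (hU : Dense (U : Set X)) : ((U : Set X)ᶜ).Finite ∧ ∀ p, p ∉ U → IsClosed ({p} : Set X) := by
  have hclosed : ∀ p, p ∉ U → IsClosed ({p} : Set X) := by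
    intro p hp
    by_contra hcl
    obtain ⟨q, hq, hne⟩ : ∃ q ∈ closure ({p} : Set X), q ≠ p := by
      by_contra h
      push Not at h
      exact hcl (closure_eq_iff_isClosed.1 (Set.Subset.antisymm (fun q hq => h q hq) subset_closure))
    obtain ⟨c, hc, hpc⟩ := exists_mem_irreducibleComponents_subset_of_isIrreducible {p} isIrreducible_singleton
    have hcc : IsClosed c := isClosed_of_mem_irreducibleComponents c hc
    obtain ⟨g, hg⟩ : ∃ g, IsGenericPoint g c :=
      ⟨hc.1.genericPoint, by have := hc.1.isGenericPoint_genericPoint_closure; rwa [hcc.closure_eq] at this⟩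
    have hgU : g ∈ U := by
      obtain ⟨o, ho, hne', hsub⟩ : ∃ o : Set X, IsOpen o ∧ o.Nonempty ∧ o ⊆ c := by
        obtain ⟨o, ho, hne'', hoC⟩ := NoetherianSpace.exists_isOpen_nonempty_subset_irreducibleComponent c hc
        exact ⟨o, ho, hne'', hoC⟩
      obtain ⟨z, hz1, hz2⟩ := hU.inter_open_nonempty o ho hne'
      exact (hg.specializes (hsub hz1)).mem_open U.2 hz2
    have hgp : g ≠ p := fun e => hp (e ▸ hgU)
    let a : IrreducibleCloseds X := ⟨closure {q}, isIrreducible_singleton.closure, isClosed_closure⟩
    let b : IrreducibleCloseds X := ⟨closure {p}, isIrreducible_singleton.closure, isClosed_closure⟩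
    let d : IrreducibleCloseds X := ⟨closure {g}, isIrreducible_singleton.closure, isClosed_closure⟩
    have hab : a < b := by
      refine lt_of_le_of_ne (closure_minimal (Set.singleton_subset_iff.2 hq) isClosed_closure : _) fun e => hne ?_
      have e' : closure ({q} : Set X) = closure {p} := congrArg (fun s : IrreducibleCloseds X => (s : Set X)) e
      exact (inseparable_iff_closure_eq.2 e').eq
    have hbd : b < d := by
      refine lt_of_le_of_ne (closure_minimal (Set.singleton_subset_iff.2 ?_) isClosed_closure : _) fun e => hgp ?_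
      · show p ∈ closure {g}
        rw [hg.def]
        exact hpc rfl
      · have e' : closure ({p} : Set X) = closure {g} := congrArg (fun s : IrreducibleCloseds X => (s : Set X)) e
        exact ((inseparable_iff_closure_eq.2 e').eq).symm
    have h2 : ((2 : ℕ) : WithBot ℕ∞) ≤ topologicalKrullDim X := by
      refine Order.LTSeries.length_le_krullDim (α := IrreducibleCloseds X) ⟨2, ![a, b, d], fun i => ?_⟩
      fin_cases i
      · exact hab
      · exact hbd
    exact absurd (h2.trans hdim) (by decide)
  refine ⟨?_, hclosed⟩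
  obtain ⟨S, hSf, hSc, hSi, hS⟩ := NoetherianSpace.exists_finite_set_isClosed_irreducible U.2.isClosed_compl
  rw [show ((U : Set X)ᶜ) = _ from hS]
  refine hSf.sUnion fun t ht => ?_
  have hirr := hSi t ht
  have hgen : IsGenericPoint hirr.genericPoint t := by
    have := hirr.isGenericPoint_genericPoint_closure
    rwa [(hSc t ht).closure_eq] at this
  have hmem : hirr.genericPoint ∈ ((U : Set X)ᶜ) := hS ▸ Set.mem_sUnion_of_mem hgen.mem ht
  rw [← hgen.def, (hclosed _ hmem).closure_eq]
  exact Set.finite_singleton _

end Groth.Agent.H9Curve
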