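import Mathlib.AlgebraicGeometry.Gluing
import Mathlib.AlgebraicGeometry.Morphisms.LocalIso
import Mathlib.AlgebraicGeometry.Morphisms.OpenImmersion
import Mathlib.AlgebraicGeometry.Morphisms.ClosedImmersion
import Mathlib.AlgebraicGeometry.Morphisms.Flat
import Mathlib.AlgebraicGeometry.PullbackCarrier

/-! Flat lifts of a scheme along a nilpotent closed immersion of bases: restriction and gluing along an open. -/

set_option autoImplicit false
set_option linter.style.haveILetI false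
set_option backward.isDefEq.respectTransparency false
set_option backward.isDefEq.respectTransparency.types false

universe u

open CategoryTheory CategoryTheory.Limits AlgebraicGeometry TopologicalSpace

noncomputable section

namespace Groth.Agent.H9Curve

theorem isIso_of_isLocalIso_bijective {X Y : Scheme.{u}} (f : X ⟶ Y) [IsLocalIso f]
    (hf : Function.Bijective f) : IsIso f := by
  have hst : ∀ p, IsIso (f.stalkMap p) := fun p => by
    obtain ⟨U, hp, hU⟩ := IsLocalIso.exists_isOpenImmersion (f := f) p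
    haveI := hU
    have h2 : IsIso ((U.ι ≫ f).stalkMap ⟨p, hp⟩) := inferInstance
    rw [Scheme.Hom.stalkMap_comp] at h2
    exact IsIso.of_isIso_comp_right (f.stalkMap (U.ι ⟨p, hp⟩)) (U.ι.stalkMap ⟨p, hp⟩)
  have hopen : IsOpenMap f := fun s hs => by
    refine isOpen_iff_mem_nhds.2 ?_
    rintro _ ⟨p, hp, rfl⟩
    obtain ⟨U, hpU, hU⟩ := IsLocalIso.exists_isOpenImmersion (f := f) p
    haveI := hU
    refine Filter.mem_of_superset (((U.ι ≫ f).isOpenEmbedding.isOpenMap _ (hs.preimage U.ι.continuous)).mem_nhds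
      ⟨⟨p, hpU⟩, hp, rfl⟩) ?_
    rintro _ ⟨q, hq, rfl⟩
    exact ⟨_, hq, rfl⟩
  haveI : IsOpenImmersion f := IsOpenImmersion.iff_isIso_stalkMap.2
    ⟨.of_continuous_injective_isOpenMap f.continuous hf.1 hopen, hst⟩
  exact isIso_of_isOpenImmersion_of_opensRange_eq_top f (Opens.ext hf.2.range_eq)

variable {C' C : Scheme.{u}} (q : C ⟶ C')

/-- A flat lift of `z : Z ⟶ C` along `q`. -/
structure LiftOf {Z : Scheme.{u}} (z : Z ⟶ C) where
  /-- the lift -/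
  T : Scheme.{u}
  /-- the structure map -/
  g : T ⟶ C'
  /-- the inclusion -/
  j : Z ⟶ T
  flat : Flat g
  isPullback : IsPullback j z g q

variable {q} [IsClosedImmersion q] [Surjective q]

namespace LiftOf

variable {Z : Scheme.{u}} {z : Z ⟶ C} (L : LiftOf q z)

instance isClosedImmersion_j : IsClosedImmersion L.j :=
  MorphismProperty.of_isPullback (P := @IsClosedImmersion) L.isPullback.flip inferInstance

instance surjective_j : Surjective L.j :=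
  MorphismProperty.of_isPullback (P := @Surjective) L.isPullback.flip inferInstance

/-- The open of the lift over an open. -/
def openOf {Z' : Scheme.{u}} (ι : Z' ⟶ Z) [IsOpenImmersion ι] : L.T.Opens :=
  ⟨L.j '' Set.range ι, by
    obtain ⟨O, hO, hOU⟩ := L.j.isClosedEmbedding.isInducing.isOpen_iff.mp ι.isOpenEmbedding.isOpen_range
    rw [← hOU, Set.image_preimage_eq O L.j.surjective]
    exact hO⟩

theorem preimage_openOf {Z' : Scheme.{u}} (ι : Z' ⟶ Z) [IsOpenImmersion ι] :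
    L.j ⁻¹ᵁ L.openOf ι = ι.opensRange :=
  Opens.ext (Set.preimage_image_eq _ L.j.isClosedEmbedding.injective)

/-- The restricted inclusion. -/
def resJ {Z' : Scheme.{u}} (ι : Z' ⟶ Z) [IsOpenImmersion ι] : Z' ⟶ (L.openOf ι : Scheme.{u}) :=
  IsOpenImmersion.lift (L.openOf ι).ι (ι ≫ L.j) (by
    rw [Scheme.Opens.range_ι]
    rintro _ ⟨p, rfl⟩
    exact ⟨ι p, ⟨p, rfl⟩, rfl⟩)

theorem resJ_ι {Z' : Scheme.{u}} (ι : Z' ⟶ Z) [IsOpenImmersion ι] : L.resJ ι ≫ (L.openOf ι).ι = ι ≫ L.j :=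
  IsOpenImmersion.lift_fac _ _ _

/-- The restriction of a lift to an open. -/
@[reducible]
def restrict {Z' : Scheme.{u}} (ι : Z' ⟶ Z) [IsOpenImmersion ι] (z' : Z' ⟶ C) (hz : z' = ι ≫ z) :
    LiftOf q z' where
  T := L.openOf ι
  g := (L.openOf ι).ι ≫ L.g
  j := L.resJ ι
  flat := by
    haveI := L.flat
    infer_instance
  isPullback := by
    subst hz
    exact (IsOpenImmersion.isPullback (L.resJ ι) ι (L.openOf ι).ι L.j (L.resJ_ι ι).symm
      (by rw [Scheme.Opens.opensRange_ι]; exact L.preimage_openOf ι)).paste_vert L.isPullback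

end LiftOf

instance (A B V : Scheme.{u}) (a : V ⟶ A) (b : V ⟶ B) [IsOpenImmersion a] [IsOpenImmersion b] :
    ∀ {i j : WalkingSpan} (f : i ⟶ j), IsOpenImmersion ((span a b).map f) := by
  intro i j f
  rcases f with - | (_ | _)
  · show IsOpenImmersion ((span a b).map (𝟙 _))
    rw [CategoryTheory.Functor.map_id]
    infer_instance
  · show IsOpenImmersion a
    infer_instance
  · show IsOpenImmersion b
    infer_instance

set_option maxHeartbeats 1600000 in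
/-- Lifts over two opens with a unique lift over their intersection glue. -/
theorem nonempty_glue {Z Z₁ Z₂ Z₁₂ : Scheme.{u}} (z : Z ⟶ C) (i₁ : Z₁ ⟶ Z) (i₂ : Z₂ ⟶ Z) (k₁ : Z₁₂ ⟶ Z₁)
    (k₂ : Z₁₂ ⟶ Z₂) [IsOpenImmersion i₁] [IsOpenImmersion i₂] [IsOpenImmersion k₁] [IsOpenImmersion k₂]
    (hk : k₁ ≫ i₁ = k₂ ≫ i₂) (hcap : ∀ p₁ p₂, i₁ p₁ = i₂ p₂ → ∃ w, k₁ w = p₁ ∧ k₂ w = p₂)
    (hcov : ∀ p, p ∈ Set.range i₁ ∨ p ∈ Set.range i₂)
    (L₁ : LiftOf q (i₁ ≫ z)) (L₂ : LiftOf q (i₂ ≫ z))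
    (huniq : ∀ M₁ M₂ : LiftOf q (k₁ ≫ i₁ ≫ z), ∃ e : M₁.T ≅ M₂.T, M₁.j ≫ e.hom = M₂.j ∧ e.hom ≫ M₂.g = M₁.g) :
    Nonempty (LiftOf q z) := by
  have hz₂ : k₁ ≫ i₁ ≫ z = k₂ ≫ i₂ ≫ z := by rw [← Category.assoc, hk, Category.assoc]
  obtain ⟨e, hej, heg⟩ := huniq (L₁.restrict k₁ _ rfl) (L₂.restrict k₂ _ hz₂)
  let V : Scheme.{u} := L₁.openOf k₁
  let a₁ : V ⟶ L₁.T := (L₁.openOf k₁).ι
  let a₂ : V ⟶ L₂.T := e.hom ≫ (L₂.openOf k₂).ι
  have hag : a₁ ≫ L₁.g = a₂ ≫ L₂.g := heg.symm.trans (Category.assoc _ _ _).symm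
  let P := pushout a₁ a₂
  let l₁ : L₁.T ⟶ P := pushout.inl a₁ a₂
  let l₂ : L₂.T ⟶ P := pushout.inr a₁ a₂
  haveI hl₁ : IsOpenImmersion l₁ := inferInstanceAs (IsOpenImmersion (colimit.ι (span a₁ a₂) WalkingSpan.left))
  haveI hl₂ : IsOpenImmersion l₂ := inferInstanceAs (IsOpenImmersion (colimit.ι (span a₁ a₂) WalkingSpan.right))
  let g : P ⟶ C' := pushout.desc L₁.g L₂.g hag
  have hg₁ : l₁ ≫ g = L₁.g := pushout.inl_desc _ _ _
  have hg₂ : l₂ ≫ g = L₂.g := pushout.inr_desc _ _ _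
  have hcovP : ∀ p : P, (∃ t, l₁ t = p) ∨ (∃ t, l₂ t = p) := fun p => by
    obtain ⟨i, t, rfl⟩ := Scheme.IsLocallyDirected.ι_jointly_surjective (span a₁ a₂) p
    rcases i with - | (_ | _)
    · refine Or.inl ⟨a₁ t, ?_⟩
      exact congr($(colimit.w (span a₁ a₂) WalkingSpan.Hom.fst) t)
    · exact Or.inl ⟨t, rfl⟩
    · exact Or.inr ⟨t, rfl⟩
  have hmeet : ∀ t₁ t₂, l₁ t₁ = l₂ t₂ → ∃ v, a₁ v = t₁ ∧ a₂ v = t₂ := fun t₁ t₂ h => by
    obtain ⟨w, f₁, f₂, v, h₁, h₂⟩ :=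
      (Scheme.IsLocallyDirected.ι_eq_ι_iff (span a₁ a₂) (i := WalkingSpan.left) (j := WalkingSpan.right)).1 h
    rcases w with - | (_ | _)
    · exact ⟨v, by rwa [Subsingleton.elim f₁ WalkingSpan.Hom.fst] at h₁, by rwa [Subsingleton.elim f₂ WalkingSpan.Hom.snd] at h₂⟩
    · nomatch f₂
    · nomatch f₁
  have hflat : Flat g := by
    refine (IsZariskiLocalAtSource.iff_of_openCover (P := @Flat)
      (Scheme.IsLocallyDirected.openCover (span a₁ a₂))).2 fun i => ?_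
    show Flat (colimit.ι (span a₁ a₂) i ≫ g)
    haveI := L₁.flat
    haveI := L₂.flat
    rcases i with - | (_ | _)
    · rw [← colimit.w (span a₁ a₂) WalkingSpan.Hom.fst, Category.assoc]
      show Flat (a₁ ≫ l₁ ≫ g)
      rw [hg₁]
      infer_instance
    · show Flat (l₁ ≫ g)
      rw [hg₁]
      infer_instance
    · show Flat (l₂ ≫ g)
      rw [hg₂]
      infer_instance
  -- the inclusion
  have hk' : k₁ ≫ L₁.j ≫ l₁ = k₂ ≫ L₂.j ≫ l₂ := by
    rw [← Category.assoc, ← L₁.resJ_ι k₁, Category.assoc]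
    refine (congrArg (L₁.resJ k₁ ≫ ·) (pushout.condition : a₁ ≫ l₁ = a₂ ≫ l₂)).trans ?_
    show L₁.resJ k₁ ≫ (e.hom ≫ (L₂.openOf k₂).ι) ≫ l₂ = _
    rw [← Category.assoc, ← Category.assoc (L₁.resJ k₁), show L₁.resJ k₁ ≫ e.hom = L₂.resJ k₂ from hej,
      L₂.resJ_ι k₂, Category.assoc]
  have hpb : IsPullback k₁ k₂ i₁ i₂ := by
    refine (IsOpenImmersion.isPullback k₂ k₁ i₂ i₁ hk (Opens.ext (Set.ext fun p => ⟨?_, ?_⟩))).flip
    · rintro ⟨p₂, hp⟩
      obtain ⟨w, hw, -⟩ := hcap p p₂ hp.symm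
      exact ⟨w, hw⟩
    · rintro ⟨w, rfl⟩
      exact ⟨k₂ w, congr($hk w).symm⟩
  let cov : Z.OpenCover := Scheme.Cover.mkOfCovers (ULift.{u} Bool) (fun b => if b.down then Z₁ else Z₂)
    (fun b => match b with
      | ⟨true⟩ => i₁
      | ⟨false⟩ => i₂)
    (fun p => (hcov p).elim (fun ⟨t, ht⟩ => ⟨⟨true⟩, t, ht⟩) (fun ⟨t, ht⟩ => ⟨⟨false⟩, t, ht⟩))
    (fun b => match b with
      | ⟨true⟩ => inferInstanceAs (IsOpenImmersion i₁)
      | ⟨false⟩ => inferInstanceAs (IsOpenImmersion i₂))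
  let J : Z ⟶ P := cov.glueMorphisms
    (fun b => match b with
      | ⟨true⟩ => L₁.j ≫ l₁
      | ⟨false⟩ => L₂.j ≫ l₂) (by
    rintro ⟨_ | _⟩ ⟨_ | _⟩
    · show pullback.fst i₂ i₂ ≫ _ = pullback.snd i₂ i₂ ≫ _
      rw [(cancel_mono i₂).1 (pullback.condition (f := i₂) (g := i₂))]
    · show pullback.fst i₂ i₁ ≫ L₂.j ≫ l₂ = pullback.snd i₂ i₁ ≫ L₁.j ≫ l₁
      rw [← cancel_epi hpb.flip.isoPullback.hom, hpb.flip.isoPullback_hom_fst_assoc,
        hpb.flip.isoPullback_hom_snd_assoc, hk']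
    · show pullback.fst i₁ i₂ ≫ L₁.j ≫ l₁ = pullback.snd i₁ i₂ ≫ L₂.j ≫ l₂
      rw [← cancel_epi hpb.isoPullback.hom, hpb.isoPullback_hom_fst_assoc,
        hpb.isoPullback_hom_snd_assoc, hk']
    · show pullback.fst i₁ i₁ ≫ _ = pullback.snd i₁ i₁ ≫ _
      rw [(cancel_mono i₁).1 (pullback.condition (f := i₁) (g := i₁))])
  have hJ₁ : i₁ ≫ J = L₁.j ≫ l₁ := cov.ι_glueMorphisms _ _ ⟨true⟩
  have hJ₂ : i₂ ≫ J = L₂.j ≫ l₂ := cov.ι_glueMorphisms _ _ ⟨false⟩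
  have hw : J ≫ g = z ≫ q := cov.hom_ext _ _ fun b => by
    rcases b with ⟨_ | _⟩
    · show i₂ ≫ J ≫ g = i₂ ≫ z ≫ q
      rw [← Category.assoc, hJ₂, Category.assoc, hg₂, L₂.isPullback.w, Category.assoc]
    · show i₁ ≫ J ≫ g = i₁ ≫ z ≫ q
      rw [← Category.assoc, hJ₁, Category.assoc, hg₁, L₁.isPullback.w, Category.assoc]
  have app₁ : ∀ p, J (i₁ p) = l₁ (L₁.j p) := fun p => congr($hJ₁ p)
  have app₂ : ∀ p, J (i₂ p) = l₂ (L₂.j p) := fun p => congr($hJ₂ p)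
  have hmeet' : ∀ p₁ p₂, l₁ (L₁.j p₁) = l₂ (L₂.j p₂) → i₁ p₁ = i₂ p₂ := fun p₁ p₂ h => by
    obtain ⟨v, hv₁, hv₂⟩ := hmeet _ _ h
    obtain ⟨_, ⟨w, rfl⟩, hw'⟩ := (v : ↥(L₁.openOf k₁)).2
    have hv : L₁.resJ k₁ w = v := (L₁.openOf k₁).ι.isOpenEmbedding.injective
      ((congr($(L₁.resJ_ι k₁) w)).trans hw')
    have e₁ : k₁ w = p₁ := L₁.j.isClosedEmbedding.injective (hw'.trans hv₁)
    have e₂ : k₂ w = p₂ := L₂.j.isClosedEmbedding.injective (by
      rw [← hv₂, ← hv]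
      refine (congr($(L₂.resJ_ι k₂) w)).symm.trans ?_
      exact congrArg (L₂.openOf k₂).ι (congr($hej w)).symm)
    exact e₁ ▸ e₂ ▸ congr($hk w)
  have hinj : Function.Injective J := fun p p' h => by
    rcases hcov p with ⟨r, rfl⟩ | ⟨r, rfl⟩ <;> rcases hcov p' with ⟨r', rfl⟩ | ⟨r', rfl⟩
    · rw [app₁, app₁] at h
      exact congrArg i₁ (L₁.j.isClosedEmbedding.injective (l₁.isOpenEmbedding.injective h))
    · rw [app₁, app₂] at h
      exact hmeet' _ _ h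
    · rw [app₂, app₁] at h
      exact (hmeet' _ _ h.symm).symm
    · rw [app₂, app₂] at h
      exact congrArg i₂ (L₂.j.isClosedEmbedding.injective (l₂.isOpenEmbedding.injective h))
  have hsurj : Function.Surjective J := fun p => by
    rcases hcovP p with ⟨t, rfl⟩ | ⟨t, rfl⟩
    · obtain ⟨r, rfl⟩ := L₁.j.surjective t
      exact ⟨i₁ r, app₁ r⟩
    · obtain ⟨r, rfl⟩ := L₂.j.surjective t
      exact ⟨i₂ r, app₂ r⟩
  -- comparison with the fibre product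
  let J' : Z ⟶ pullback g q := pullback.lift J z hw
  have hpiece : ∀ {T : Scheme.{u}} (l : T ⟶ P) [IsOpenImmersion l] {Y : Scheme.{u}} (i : Y ⟶ Z) (j : Y ⟶ T)
      (gT : T ⟶ C'), l ≫ g = gT → IsPullback j (i ≫ z) gT q → i ≫ J = j ≫ l → IsOpenImmersion (i ≫ J') := by
    intro T l _ Y i j gT hgT hP hiJ
    have e1 : i ≫ J' = hP.isoPullback.hom ≫ pullback.map gT q g q l (𝟙 C) (𝟙 C')
        (by rw [Category.comp_id, hgT]) (by simp) := by
      refine pullback.hom_ext ?_ ?_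
      · rw [Category.assoc, Category.assoc, pullback.lift_fst, pullback.lift_fst, IsPullback.isoPullback_hom_fst_assoc]
        exact hiJ
      · rw [Category.assoc, Category.assoc, pullback.lift_snd, pullback.lift_snd, IsPullback.isoPullback_hom_snd_assoc,
          Category.comp_id]
    rw [e1]
    infer_instance
  haveI : IsLocalIso J' := ⟨fun p => by
    rcases hcov p with hp | hp
    · refine ⟨i₁.opensRange, hp, ?_⟩
      haveI := hpiece l₁ i₁ L₁.j L₁.g hg₁ L₁.isPullback hJ₁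
      rw [show i₁.opensRange.ι ≫ J' = i₁.isoOpensRange.inv ≫ i₁ ≫ J' by rw [← Category.assoc]; simp]
      infer_instance
    · refine ⟨i₂.opensRange, hp, ?_⟩
      haveI := hpiece l₂ i₂ L₂.j L₂.g hg₂ L₂.isPullback hJ₂
      rw [show i₂.opensRange.ι ≫ J' = i₂.isoOpensRange.inv ≫ i₂ ≫ J' by rw [← Category.assoc]; simp]
      infer_instance⟩
  have happ : ∀ p, pullback.fst g q (J' p) = J p := fun p =>
    congr($(pullback.lift_fst J z hw) p)
  haveI : IsIso J' := isIso_of_isLocalIso_bijective J' ⟨fun p p' h => hinj (by rw [← happ, ← happ, h]), fun y => by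
    obtain ⟨p, hp⟩ := hsurj (pullback.fst g q y)
    exact ⟨p, (pullback.fst g q).isClosedEmbedding.injective ((happ p).trans hp)⟩⟩
  exact ⟨⟨P, g, J, hflat, IsPullback.of_iso_pullback ⟨hw⟩ (asIso J') (pullback.lift_fst _ _ _) (pullback.lift_snd _ _ _)⟩⟩

end Groth.Agent.H9Curve
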