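import Groth.Agent.DefGlueLib.LiftAffine
import Groth.Agent.DefGlueLib.Rigid
import Groth.Agent.H9Curve.Glue
import Groth.Agent.KRegLib.Pres
import Groth.Agent.Synt29.KoszulPresentation
import Groth.Agent.Synt29.Syntomic
import Mathlib.AlgebraicGeometry.Morphisms.Smooth

/-! Deformations of affine opens: existence at complete intersection points, uniqueness at smooth ones. -/

set_option autoImplicit false
set_option linter.style.haveILetI false
set_option backward.isDefEq.respectTransparency false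
set_option backward.isDefEq.respectTransparency.types false

universe u

open CategoryTheory CategoryTheory.Limits AlgebraicGeometry TopologicalSpace ArtFun

noncomputable section

namespace Groth.Agent.H9Curve

variable {k : Type u} [Field k]

theorem exists_formallySmooth_str {X : Scheme.{u}} [IsAffine X] (x : X ⟶ Art.specPt k) [Smooth x] :
    (DefGlueLib.str x (DefGlueLib.topAZ X)).Smooth := by
  have h := Smooth.smooth_appLE x (isAffineOpen_top (Art.specPt k)) (isAffineOpen_top X) le_top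
  show RingHom.Smooth (((x.appLE ⊤ ⊤ le_top).hom).comp (Scheme.ΓSpecIso (CommRingCat.of k)).inv.hom)
  exact (RingHom.Smooth.of_bijective (ConcreteCategory.bijective_of_isIso
    (Scheme.ΓSpecIso (CommRingCat.of k)).inv)).comp h

theorem exists_hom_of_formallySmooth {B₀ : Type u} [CommRing B₀] [Algebra k B₀] [Algebra.FormallySmooth k B₀]
    (E : Exal.Ext k B₀ B₀) : E.IsTrivial := by
  have hsurj := E.isExtension.proj_surjective
  have hsq : ∀ a b : E.E, E.proj a = 0 → E.proj b = 0 → a * b = 0 := fun a b ha hb => by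
    obtain ⟨z, rfl⟩ := (E.isExtension.exact b).1 hb
    rw [E.isExtension.mul_incl, ha, zero_smul, map_zero]
  have hnil : IsNilpotent (RingHom.ker E.proj.toRingHom) := ⟨2, by
    rw [pow_two, Ideal.zero_eq_bot]
    exact le_bot_iff.1 (Ideal.mul_le.2 fun a ha b hb => hsq a b ha hb)⟩
  refine ⟨Algebra.FormallySmooth.liftOfSurjective (AlgHom.id k B₀) E.proj hsurj hnil, fun b => ?_⟩
  exact Algebra.FormallySmooth.liftOfSurjective_apply _ _ hsurj hnil b

theorem subsingleton_obj_of_smooth {X : Scheme.{u}} [IsAffine X] (x : X ⟶ Art.specPt k) [Smooth x] (A : Art k k) :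
    Subsingleton ((defFunctor (Λ := k) X x).obj A) := by
  have hst := exists_formallySmooth_str x
  let _ : Algebra k Γ(X, ⊤) := (DefGlueLib.str x (DefGlueLib.topAZ X)).toAlgebra
  haveI hsm : Algebra.Smooth k Γ(X, ⊤) := hst.toAlgebra
  obtain ⟨n, π, hπ⟩ := Algebra.FiniteType.iff_quotient_mvPolynomial''.1
    (inferInstance : Algebra.FiniteType k Γ(X, ⊤))
  let P := MvPolynomial (Fin n) k
  let _ : Algebra P Γ(X, ⊤) := π.toRingHom.toAlgebra
  have : IsScalarTower k P Γ(X, ⊤) := IsScalarTower.of_algebraMap_eq fun c => (π.commutes c).symm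
  have hc : ∀ c : k, algebraMap k Γ(X, ⊤) c = DefGlueLib.str x (DefGlueLib.topAZ X) c := fun c => rfl
  have hs : Function.Surjective (algebraMap P Γ(X, ⊤)) := hπ
  have ht : Subsingleton ((defFunctor (Λ := k) X x).obj (Art.dual k k)) := by
    refine subsingleton_of_forall_eq (DefGlueLib.tanOf k (P := P) hc hs 0) fun t => ?_
    obtain ⟨h, rfl⟩ := DefGlueLib.tanOf_surjective (Λ := k) (P := P) hc hs (fun {R} _ _ q hq => by
      refine ⟨MvPolynomial.aeval fun i => (hq (π (MvPolynomial.X i))).choose, MvPolynomial.algHom_ext fun i => ?_⟩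
      rw [AlgHom.comp_apply, MvPolynomial.aeval_X, (hq (π (MvPolynomial.X i))).choose_spec]
      rfl) t
    obtain ⟨D, hD⟩ := DefGlueLib.exists_derivation_of_isTrivial (AlgEquiv.refl (R := k) (A₁ := Γ(X, ⊤)))
      (fun E => exists_hom_of_formallySmooth E) hs h
    exact (DefGlueLib.tanOf_shift (P := P) hc hs _ _ D fun g => (zero_add _).trans (hD g).symm).symm
  exact DefGlueLib.subsingleton_obj_of_subsingleton_tangent DefGlueLib.h0_defFunctor
    (fun _ _ _ _ _ _ _ _ h hf => DefGlueLib.surjective_cmp h hf.1) DefGlueLib.heps_defFunctor ht A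

theorem liftable_of_smooth {X : Scheme.{u}} [IsAffine X] (x : X ⟶ Art.specPt k) [Smooth x] {A' A : Art k k}
    (p : A' ⟶ A) (hp : Function.Surjective p) : DefGlueLib.Liftable x p :=
  DefGlueLib.liftable_of_injective hp fun {B p₁ p₂} h a₁ a₂ _ =>
    (subsingleton_obj_of_smooth x B).elim a₁ a₂

section Open

variable {X : Scheme.{u}} {x : X ⟶ Art.specPt k} {C' C : Art k k} {p : C' ⟶ C} (η : DefSch X x C)

/-- The structure map of an open part of the total space. -/
abbrev zOf (W : X.Opens) : (DefGlueLib.imOpen η W : Scheme.{u}) ⟶ Art.spec C :=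
  (DefGlueLib.imOpen η W).ι ≫ η.f

theorem le_imOpen (W : X.Opens) : W ≤ η.i ⁻¹ᵁ DefGlueLib.imOpen η W :=
  (DefGlueLib.preimage_imOpen η W).ge

theorem isPullback_resLE {Y Z : Scheme.{u}} (i : Y ⟶ Z) (O : Z.Opens) {W : Y.Opens} (h : i ⁻¹ᵁ O = W) :
    IsPullback (i.resLE O W h.ge) W.ι O.ι i := by
  subst h
  rw [Scheme.Hom.resLE_eq_morphismRestrict]
  exact isPullback_morphismRestrict i O

/-- The restriction of a deformation to an open. -/
@[reducible]
def resDef (W : X.Opens) : DefSch (W : Scheme.{u}) (W.ι ≫ x) C where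
  total := DefGlueLib.imOpen η W
  f := zOf η W
  flat := by
    haveI := η.flat
    infer_instance
  i := η.i.resLE (DefGlueLib.imOpen η W) W (le_imOpen η W)
  isPullback := (isPullback_resLE η.i (DefGlueLib.imOpen η W) (DefGlueLib.preimage_imOpen η W)).paste_vert η.isPullback

/-- A lift over an open gives a deformation. -/
@[reducible]
def toDefSch (W : X.Opens) (L : LiftOf (Art.specMap p) (zOf η W)) : DefSch (W : Scheme.{u}) (W.ι ≫ x) C' where
  total := L.T
  f := L.g
  flat := L.flat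
  i := (resDef η W).i ≫ L.j
  isPullback := by
    have h := (resDef η W).isPullback.paste_horiz L.isPullback
    rwa [Art.specRes_comp] at h

/-- The projection to the given deformation. -/
def toOv (W : X.Opens) (L : LiftOf (Art.specMap p) (zOf η W)) :
    DefGlueLib.Ov p (toDefSch η W L) (resDef η W) :=
  ⟨L.j, L.isPullback.w, rfl⟩

theorem exists_lift_of_surjective (W : X.Opens)
    (h : Function.Surjective ((defFunctor (Λ := k) (W : Scheme.{u}) (W.ι ≫ x)).map p)) :
    Nonempty (LiftOf (Art.specMap p) (zOf η W)) := by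
  obtain ⟨q, hq⟩ := h (resDef η W).cl
  obtain ⟨ξ, rfl⟩ := DefGlueLib.cl_surjective q
  have hq' : (ξ.baseChange p).cl = (resDef η W).cl := hq
  obtain ⟨e⟩ := DefGlueLib.cl_eq_iff.1 hq'
  refine ⟨⟨ξ.total, ξ.f, e.iso.inv ≫ pullback.fst ξ.f (Art.specMap p), ξ.flat, ?_⟩⟩
  refine (IsPullback.of_horiz_isIso (fst := e.iso.inv) (snd := zOf η W)
    (f := (ξ.baseChange p).f) (g := 𝟙 (Art.spec C)) ⟨?_⟩).paste_horiz (IsPullback.of_hasPullback ξ.f (Art.specMap p))
      |>.of_iso (Iso.refl _) (Iso.refl _) (Iso.refl _) (Iso.refl _) (by simp) (by simp) (by simp) (by simp)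
  rw [Category.comp_id, Iso.inv_comp_eq]
  exact e.hom_f.symm

theorem exists_iso_of_smooth (W : X.Opens) (hW : IsAffineOpen W) [Smooth (W.ι ≫ x)]
    (hp : Function.Surjective p) (M₁ M₂ : LiftOf (Art.specMap p) (zOf η W)) :
    ∃ e : M₁.T ≅ M₂.T, M₁.j ≫ e.hom = M₂.j ∧ e.hom ≫ M₂.g = M₁.g := by
  haveI : IsAffine (W : Scheme.{u}) := hW
  obtain ⟨Θ⟩ := DefGlueLib.cl_eq_iff.1 ((subsingleton_obj_of_smooth (W.ι ≫ x) C').elim
    (toDefSch η W M₁).cl (toDefSch η W M₂).cl)
  let Φ₂ := toOv η W M₂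
  let Φ' := (toOv η W M₁).compIso Θ
  obtain ⟨e, he⟩ := Φ₂.exists_iso Φ'
  let c := Φ₂.toBC
  obtain ⟨s, hs⟩ := liftable_of_smooth (W.ι ≫ x) p hp (toDefSch η W M₂) (c.symm.trans (e.trans c))
  have b : (s.baseChange p).iso.hom ≫ pullback.fst M₂.g (Art.specMap p) =
      pullback.fst M₂.g (Art.specMap p) ≫ s.iso.hom :=
    DefSch.pullMap_fst s.iso.hom s.hom_f p
  have key : M₁.j ≫ Θ.iso.hom = M₂.j ≫ s.iso.hom := by
    have hs' : (s.baseChange p).iso.hom = (c.symm.trans (e.trans c)).iso.hom := by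
      have := congrArg (fun t : DefSch.Iso _ _ => t.iso.hom) hs
      exact this
    rw [hs'] at b
    calc M₁.j ≫ Θ.iso.hom = e.iso.hom ≫ M₂.j := he.symm
      _ = e.iso.hom ≫ c.iso.hom ≫ pullback.fst M₂.g (Art.specMap p) := by rw [Φ₂.toBC_fst]; rfl
      _ = c.iso.hom ≫ (c.symm.trans (e.trans c)).iso.hom ≫ pullback.fst M₂.g (Art.specMap p) := by
          show _ = c.iso.hom ≫ (c.iso.inv ≫ e.iso.hom ≫ c.iso.hom) ≫ _
          simp only [Category.assoc, Iso.hom_inv_id_assoc]
      _ = c.iso.hom ≫ pullback.fst M₂.g (Art.specMap p) ≫ s.iso.hom := by rw [b]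
      _ = M₂.j ≫ s.iso.hom := by
          rw [← Category.assoc, Φ₂.toBC_fst]
          rfl
  refine ⟨Θ.iso ≪≫ s.iso.symm, ?_, ?_⟩
  · rw [Iso.trans_hom, Iso.symm_hom, ← Category.assoc, key, Category.assoc, Iso.hom_inv_id, Category.comp_id]
  · rw [Iso.trans_hom, Iso.symm_hom, Category.assoc]
    exact (congrArg (Θ.iso.hom ≫ ·) ((Iso.inv_comp_eq _).2 s.hom_f.symm)).trans Θ.hom_f

end Open

section LCI

variable {X : Scheme.{u}} {x : X ⟶ Art.specPt k}

theorem exists_lci_of_syntomicAt {p : X} (hp : Synt.IsSyntomicAt x p) :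
    ∃ U : X.affineOpens, p ∈ U.1 ∧
      (letI := (DefGlueLib.str x ⟨U.1, U.2⟩).toAlgebra; LCI.IsLCI k Γ(X, U.1)) := by
  obtain ⟨U, V, e, hpU, h⟩ := hp
  refine ⟨U, hpU, ?_⟩
  have hV : V.1 = ⊤ := top_unique fun q _ => by
    rw [Subsingleton.elim (α := PrimeSpectrum k) q (x p)]
    exact e hpU
  obtain ⟨V, hVa⟩ := V
  simp only at hV
  subst hV
  letI := (x.appLE ⊤ U.1 e).hom.toAlgebra
  letI aS := (DefGlueLib.str x ⟨U.1, U.2⟩).toAlgebra
  letI aR : Algebra k Γ(Art.specPt k, ⊤) := (Scheme.ΓSpecIso (CommRingCat.of k)).inv.hom.toAlgebra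
  haveI : IsLocalization.Away (1 : k) Γ(Art.specPt k, ⊤) := IsLocalization.away_of_isUnit_of_bijective _ isUnit_one
    (ConcreteCategory.bijective_of_isIso (Scheme.ΓSpecIso (CommRingCat.of k)).inv)
  haveI : IsScalarTower k Γ(Art.specPt k, ⊤) Γ(X, U.1) := IsScalarTower.of_algebraMap_eq fun _ => rfl
  haveI hS : Synt.IsSyntomic k Γ(X, U.1) := Synt29.isSyntomic_of_away_source 1 Γ(Art.specPt k, ⊤) Γ(X, U.1) h
  haveI := hS.2.1
  obtain ⟨n, φ, hφ⟩ := Algebra.FiniteType.iff_quotient_mvPolynomial''.1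
    (inferInstance : Algebra.FiniteType k Γ(X, U.1))
  exact ⟨inferInstance, n, φ, hφ, Synt29.isKoszulRegularIdeal_ker_of_isSyntomic hS φ hφ⟩

theorem isLCI_basicOpen (U : X.affineOpens) (g : Γ(X, U.1))
    (h : letI := (DefGlueLib.str x ⟨U.1, U.2⟩).toAlgebra; LCI.IsLCI k Γ(X, U.1)) :
    letI := (DefGlueLib.str x ⟨X.basicOpen g, U.2.basicOpen g⟩).toAlgebra
    LCI.IsLCI k Γ(X, X.basicOpen g) := by
  letI := (DefGlueLib.str x ⟨U.1, U.2⟩).toAlgebra
  letI := (DefGlueLib.str x ⟨X.basicOpen g, U.2.basicOpen g⟩).toAlgebra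
  haveI := U.2.isLocalization_basicOpen g
  haveI : IsScalarTower k Γ(X, U.1) Γ(X, X.basicOpen g) := IsScalarTower.of_algebraMap_eq fun c => by
    refine (congr($(Scheme.Hom.appLE_map (f := x) (U := ⊤) (V := U.1) le_top (homOfLE (X.basicOpen_le g)).op)
      ((Scheme.ΓSpecIso (CommRingCat.of k)).inv c))).symm.trans ?_
    rfl
  exact KRegLib.isLCI_away_target h g _

theorem isSmoothFunctor_of_isLCI (W : X.Opens) (hW : IsAffineOpen W)
    (h : letI := (DefGlueLib.str x ⟨W, hW⟩).toAlgebra; LCI.IsLCI k Γ(X, W)) :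
    IsSmoothFunctor (defFunctor (Λ := k) (W : Scheme.{u}) (W.ι ≫ x)) := by
  haveI : IsAffine (W : Scheme.{u}) := hW
  letI := (DefGlueLib.str x ⟨W, hW⟩).toAlgebra
  obtain ⟨-, n, π, hπ, hK⟩ := h
  obtain ⟨r, f, hf⟩ := Submodule.fg_iff_exists_fin_generating_family.1
    (IsNoetherian.noetherian (RingHom.ker π.toRingHom))
  replace hf : Ideal.span (Set.range f) = RingHom.ker π.toRingHom := hf
  let e : Γ(X, W) →+* Γ((W : Scheme.{u}), ⊤) := W.topIso.inv.hom
  have he : Function.Bijective e := ConcreteCategory.bijective_of_isIso W.topIso.inv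
  let _ : Algebra (MvPolynomial (Fin n) k) Γ((W : Scheme.{u}), ⊤) := (e.comp π.toRingHom).toAlgebra
  refine DefGlueLib.isSmoothFunctor_defFunctor_affine (W.ι ≫ x) (n := n) ?_ (he.2.comp hπ) f ?_ (hf ▸ hK)
  · refine RingHom.ext fun c => ?_
    show _ = e (π (MvPolynomial.C c))
    rw [show π (MvPolynomial.C c) = DefGlueLib.str x ⟨W, hW⟩ c from π.commutes c]
    show (W.ι ≫ x).appLE ⊤ ⊤ le_top ((Scheme.ΓSpecIso (CommRingCat.of k)).inv c) =
      W.topIso.inv (x.appLE ⊤ W le_top ((Scheme.ΓSpecIso (CommRingCat.of k)).inv c))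
    have h1 : x.appLE ⊤ W le_top ≫ W.topIso.inv = (W.ι ≫ x).appLE ⊤ ⊤ le_top := by
      rw [← Scheme.Hom.appLE_comp_appLE W.ι x ⊤ W ⊤ le_top (by simp)]
      refine congrArg (x.appLE ⊤ W le_top ≫ ·) ?_
      rw [Scheme.Opens.topIso_inv, Scheme.Opens.ι_appLE]
      rfl
    exact (congr($h1 _)).symm
  · rw [hf]
    ext a
    exact ⟨fun ha => he.1 (ha.trans (map_zero e).symm), fun ha => (congrArg e ha).trans (map_zero e)⟩

end LCI

end Groth.Agent.H9Curve
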