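import Groth.Agent.H9Curve.Dim
import Groth.Agent.H9Curve.Local
import Groth.Agent.ArtFunLib.LocalFunctor

/-! Unobstructedness for curves with isolated complete intersection singularities. -/

set_option autoImplicit false
set_option linter.style.haveILetI false
set_option backward.isDefEq.respectTransparency false
set_option backward.isDefEq.respectTransparency.types false

universe u

open CategoryTheory CategoryTheory.Limits AlgebraicGeometry TopologicalSpace ArtFun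

noncomputable section

namespace Groth.Agent.H9Curve

variable {k : Type u} [Field k] {X : Scheme.{u}} {x : X ⟶ Art.specPt k}

theorem isClosedImmersion_specMap {C' C : Art k k} (p : C' ⟶ C) (hp : Function.Surjective p) :
    IsClosedImmersion (Art.specMap p) :=
  IsClosedImmersion.spec_of_surjective _ hp

theorem surjective_specMap {C' C : Art k k} (p : C' ⟶ C) : Surjective (Art.specMap p) :=
  ⟨fun y => ⟨IsLocalRing.closedPoint C, (ArtFunLib.LocalFunctor.subsingleton_spec C').elim _ y⟩⟩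

theorem smooth_ι_comp {U W : X.Opens} (h : W ≤ U) [Smooth (U.ι ≫ x)] : Smooth (W.ι ≫ x) := by
  rw [← X.homOfLE_ι h, Category.assoc]
  infer_instance

/-- An affine neighbourhood with a single singular point and complete intersection presentation. -/
theorem exists_good_affine [LocallyOfFiniteType x] (hlci : ∀ p : X, Synt.IsSyntomicAt x p) {U : X.Opens}
    (hfin : ((U : Set X)ᶜ).Finite) (hclosed : ∀ p, p ∉ U → IsClosed ({p} : Set X)) (q : X) :
    ∃ V : X.affineOpens, q ∈ V.1 ∧ (∀ r ∈ V.1, r ∉ U → r = q) ∧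
      IsSmoothFunctor (defFunctor (Λ := k) (V.1 : Scheme.{u}) (V.1.ι ≫ x)) := by
  obtain ⟨W, hqW, hW⟩ := exists_lci_of_syntomicAt (hlci q)
  let O : X.Opens := ⟨((U : Set X)ᶜ \ {q})ᶜ, by
    refine IsClosed.isOpen_compl (self := ?_)
    rw [← Set.biUnion_of_singleton ((U : Set X)ᶜ \ {q})]
    exact (hfin.subset Set.sdiff_subset).isClosed_biUnion fun r hr => hclosed r hr.1⟩
  obtain ⟨g, hgO, hqg⟩ := W.2.exists_basicOpen_le (V := O) ⟨q, fun h => h.2 rfl⟩ hqW
  exact ⟨⟨X.basicOpen g, W.2.basicOpen g⟩, hqg, fun r hr hrU => by_contra fun hne => hgO hr ⟨hrU, hne⟩,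
    isSmoothFunctor_of_isLCI _ (W.2.basicOpen g) (isLCI_basicOpen W g hW)⟩

theorem exists_cover [LocallyOfFiniteType x] [QuasiCompact x] (hlci : ∀ p : X, Synt.IsSyntomicAt x p)
    (hdim : topologicalKrullDim X ≤ 1) {U : X.Opens} (hU : Dense (U : Set X)) :
    ∃ (n : ℕ) (V : Fin n → X.affineOpens), (∀ p : X, ∃ i, p ∈ (V i).1) ∧
      (∀ i, IsSmoothFunctor (defFunctor (Λ := k) ((V i).1 : Scheme.{u}) ((V i).1.ι ≫ x))) ∧
      ∀ i j, i ≠ j → (V i).1 ⊓ (V j).1 ≤ U := by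
  classical
  haveI : IsLocallyNoetherian X := LocallyOfFiniteType.isLocallyNoetherian x
  haveI : CompactSpace X := QuasiCompact.compactSpace_of_compactSpace x
  haveI : AlgebraicGeometry.IsNoetherian X := ⟨⟩
  obtain ⟨hfin, hclosed⟩ := finite_compl_of_dense hdim hU
  choose V hmem huniq hsm using exists_good_affine hlci hfin hclosed
  -- singular points, each with its neighbourhood, and finitely many further neighbourhoods of smooth points
  let O : X.Opens := U
  obtain ⟨t, ht⟩ := (NoetherianSpace.isCompact (U : Set X)).elim_finite_subcover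
    (fun q : U => ((V q.1).1 : Set X)) (fun q => (V q.1).1.2) (fun q hq => Set.mem_iUnion.2 ⟨⟨q, hq⟩, hmem q⟩)
  let ι := {q : X // q ∈ hfin.toFinset ∪ t.image Subtype.val}
  let e : Fin (Fintype.card ι) ≃ ι := (Fintype.equivFin ι).symm
  refine ⟨Fintype.card ι, fun i => V (e i).1, fun p => ?_, fun i => hsm _, fun i j hij r hr => ?_⟩
  · by_cases hp : p ∈ U
    · obtain ⟨q, hq, hpq⟩ := Set.mem_iUnion₂.1 (ht hp)
      exact ⟨e.symm ⟨q.1, Finset.mem_union_right _ (Finset.mem_image_of_mem _ hq)⟩, by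
        show p ∈ (V (e (e.symm _)).1).1
        rw [Equiv.apply_symm_apply]; exact hpq⟩
    · exact ⟨e.symm ⟨p, Finset.mem_union_left _ (hfin.mem_toFinset.2 hp)⟩, by
        show p ∈ (V (e (e.symm _)).1).1
        rw [Equiv.apply_symm_apply]; exact hmem p⟩
  · by_contra hrU
    exact hij (e.injective (Subtype.ext ((huniq _ r hr.1 hrU).symm.trans (huniq _ r hr.2 hrU))))

theorem nonempty_liftOf_bot {C' C : Art k k} (p : C' ⟶ C) (η : DefSch X x C) :
    Nonempty (LiftOf (Art.specMap p) (zOf η ⊥)) := by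
  haveI : IsEmpty (DefGlueLib.imOpen η ⊥ : Scheme.{u}) := ⟨fun z => by
    obtain ⟨q, hq, -⟩ := z.2
    exact hq⟩
  refine ⟨⟨DefGlueLib.imOpen η ⊥, zOf η ⊥ ≫ Art.specMap p, 𝟙 _, inferInstance, ?_⟩⟩
  haveI : IsEmpty ↥(pullback (zOf η ⊥ ≫ Art.specMap p) (Art.specMap p)) :=
    Function.isEmpty (pullback.fst (zOf η ⊥ ≫ Art.specMap p) (Art.specMap p))
  let J := pullback.lift (f := zOf η ⊥ ≫ Art.specMap p) (g := Art.specMap p) (𝟙 _) (zOf η ⊥) (Category.id_comp _)
  exact IsPullback.of_iso_pullback ⟨Category.id_comp _⟩ (asIso J) (pullback.lift_fst _ _ _) (pullback.lift_snd _ _ _)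

set_option maxHeartbeats 800000 in
theorem nonempty_liftOf_sup {C' C : Art k k} (p : C' ⟶ C) (hp : Function.Surjective p) (η : DefSch X x C)
    {U W₁ W₂ : X.Opens} [Smooth (U.ι ≫ x)] (hcap : W₁ ⊓ W₂ ≤ U) (haff : IsAffineOpen (W₁ ⊓ W₂))
    (h₁ : Nonempty (LiftOf (Art.specMap p) (zOf η W₁))) (h₂ : Nonempty (LiftOf (Art.specMap p) (zOf η W₂))) :
    Nonempty (LiftOf (Art.specMap p) (zOf η (W₁ ⊔ W₂))) := by
  haveI := isClosedImmersion_specMap p hp
  haveI := surjective_specMap p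
  haveI : Smooth ((W₁ ⊓ W₂).ι ≫ x) := smooth_ι_comp hcap
  obtain ⟨L₁⟩ := h₁
  obtain ⟨L₂⟩ := h₂
  have m := DefGlueLib.imOpen_mono η
  let i₁ := η.total.homOfLE (m (le_sup_left : W₁ ≤ W₁ ⊔ W₂))
  let i₂ := η.total.homOfLE (m (le_sup_right : W₂ ≤ W₁ ⊔ W₂))
  let k₁ := η.total.homOfLE (m (inf_le_left : W₁ ⊓ W₂ ≤ W₁))
  let k₂ := η.total.homOfLE (m (inf_le_right : W₁ ⊓ W₂ ≤ W₂))
  have e₁ : zOf η W₁ = i₁ ≫ zOf η (W₁ ⊔ W₂) := (η.total.homOfLE_ι_assoc _ _).symm
  have e₂ : zOf η W₂ = i₂ ≫ zOf η (W₁ ⊔ W₂) := (η.total.homOfLE_ι_assoc _ _).symm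
  have e₃ : zOf η (W₁ ⊓ W₂) = k₁ ≫ i₁ ≫ zOf η (W₁ ⊔ W₂) := by
    rw [← e₁]
    exact (η.total.homOfLE_ι_assoc _ _).symm
  have hinj : Function.Injective η.i := η.i.isClosedEmbedding.injective
  refine nonempty_glue (zOf η (W₁ ⊔ W₂)) i₁ i₂ k₁ k₂ (by simp [i₁, i₂, k₁, k₂]) (fun p₁ p₂ h => ?_) (fun z => ?_)
    (e₁ ▸ L₁) (e₂ ▸ L₂) (e₃ ▸ exists_iso_of_smooth η (W₁ ⊓ W₂) haff hp)
  · have hval : ∀ {O O' : η.total.Opens} (h : O ≤ O') (t : (O : Scheme.{u})), ((η.total.homOfLE h) t).1 = t.1 :=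
      fun h t => congr($(η.total.homOfLE_ι h) t)
    have hv : p₁.1 = p₂.1 := (hval _ p₁).symm.trans ((congrArg Subtype.val h).trans (hval _ p₂))
    obtain ⟨a, ha, hae⟩ := p₁.2
    obtain ⟨b, hb, hbe⟩ := p₂.2
    obtain rfl : a = b := hinj (hae.trans (hv.trans hbe.symm))
    exact ⟨⟨η.i a, a, ⟨ha, hb⟩, rfl⟩, Subtype.ext ((hval _ _).trans hae), Subtype.ext ((hval _ _).trans hbe)⟩
  · have hval : ∀ {O O' : η.total.Opens} (h : O ≤ O') (t : (O : Scheme.{u})), ((η.total.homOfLE h) t).1 = t.1 :=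
      fun h t => congr($(η.total.homOfLE_ι h) t)
    obtain ⟨a, ha, hae⟩ := z.2
    rcases ha with ha | ha
    · exact Or.inl ⟨⟨η.i a, a, ha, rfl⟩, Subtype.ext ((hval _ _).trans hae)⟩
    · exact Or.inr ⟨⟨η.i a, a, ha, rfl⟩, Subtype.ext ((hval _ _).trans hae)⟩

/-- Deformations of a curve with isolated complete intersection singularities are unobstructed. -/
theorem isSmoothFunctor_defFunctor [LocallyOfFiniteType x] [QuasiCompact x] (hdim : topologicalKrullDim X ≤ 1)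
    (hlci : ∀ p : X, Synt.IsSyntomicAt x p) {U : X.Opens} (hU : Dense (U : Set X)) [Smooth (U.ι ≫ x)] :
    IsSmoothFunctor (defFunctor (Λ := k) X x) := by
  classical
  intro C' C p hp c
  obtain ⟨η, rfl⟩ := DefGlueLib.cl_surjective c
  haveI := isClosedImmersion_specMap p hp
  haveI := surjective_specMap p
  obtain ⟨n, V, hcov, hsm, hmeet⟩ := exists_cover hlci hdim hU
  have key : ∀ s : Finset (Fin n), Nonempty (LiftOf (Art.specMap p) (zOf η (s.sup fun i => (V i).1))) := by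
    intro s
    induction s using Finset.induction with
    | empty =>
      rw [Finset.sup_empty]
      exact nonempty_liftOf_bot p η
    | @insert a s ha ih =>
      rw [Finset.sup_insert]
      refine nonempty_liftOf_sup p hp η (U := U) ?_ (isAffineOpen_of_le x hdim (V a).2 inf_le_left)
        (exists_lift_of_surjective η (V a).1 (hsm a p hp)) ih
      rw [Finset.sup_inf_distrib_left, Finset.sup_le_iff]
      exact fun i hi => hmeet a i fun e => ha (e ▸ hi)
  have htop : (Finset.univ.sup fun i => (V i).1) = ⊤ := top_unique fun q _ => by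
    obtain ⟨i, hi⟩ := hcov q
    exact Finset.le_sup (f := fun i => (V i).1) (Finset.mem_univ i) hi
  obtain ⟨L⟩ := key Finset.univ
  rw [htop] at L
  let ξ := toDefSch η ⊤ L
  let e₀ : X ≅ (⊤ : X.Opens) := X.topIso.symm
  have hi : e₀.hom ≫ (resDef η ⊤).i ≫ (DefGlueLib.imOpen η ⊤).ι = η.i := by
    show X.topIso.inv ≫ η.i.resLE _ _ _ ≫ _ = _
    rw [Scheme.Hom.resLE_comp_ι]
    show X.topIso.inv ≫ X.topIso.hom ≫ η.i = η.i
    rw [Iso.inv_hom_id_assoc]
  have hx : e₀.hom ≫ (⊤ : X.Opens).ι ≫ x = x := by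
    show X.topIso.inv ≫ X.topIso.hom ≫ x = x
    rw [Iso.inv_hom_id_assoc]
  let ξ' : DefSch X x C' :=
    { total := L.T
      f := L.g
      flat := L.flat
      i := e₀.hom ≫ ξ.i
      isPullback := ξ.isPullback.of_iso e₀.symm (Iso.refl _) (Iso.refl _) (Iso.refl _)
        (by simp [ξ]) (by simp only [Iso.refl_hom, Category.comp_id, Iso.symm_hom]; rw [← cancel_epi e₀.hom, hx, Iso.hom_inv_id_assoc])
        (by simp [ξ]) (by simp) }
  refine ⟨ξ'.cl, DefGlueLib.cl_eq_iff.2 ⟨(DefGlueLib.Ov.toBC (ξ := ξ') (η := η) ?_).symm⟩⟩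
  haveI : IsIso (DefGlueLib.imOpen η ⊤).ι := isIso_of_isOpenImmersion_of_opensRange_eq_top _ (by
    rw [Scheme.Opens.opensRange_ι]
    exact top_unique fun z _ => (η.i.surjective z).elim fun a ha => ⟨a, trivial, ha⟩)
  refine ⟨inv (DefGlueLib.imOpen η ⊤).ι ≫ L.j, ?_, ?_⟩
  · rw [Category.assoc]
    refine (congrArg (inv (DefGlueLib.imOpen η ⊤).ι ≫ ·) L.isPullback.w).trans ?_
    simp
  · show η.i ≫ inv (DefGlueLib.imOpen η ⊤).ι ≫ L.j = e₀.hom ≫ (resDef η ⊤).i ≫ L.j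
    have h3 : η.i ≫ inv (DefGlueLib.imOpen η ⊤).ι = e₀.hom ≫ (resDef η ⊤).i := by
      rw [IsIso.comp_inv_eq, Category.assoc]
      exact hi.symm
    rw [← Category.assoc, h3, Category.assoc]

end Groth.Agent.H9Curve
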